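import Groth.Agent.SigmaLinLib.AlgClosed

/-! # The two solvability conditions for powers of Frobenius and their inverses -/

namespace Groth.Agent.SigmaLinLib

open Polynomial

variable {k : Type*} [Field k] [IsAlgClosed k] {q : ℕ} (hq : 1 < q) (σ : k →+* k)

include hq

theorem exists_pow_sub_eq (c : k) : ∃ y : k, y ^ q - y + c = 0 := by
  have hd : (X ^ q - X + C c : k[X]).degree ≠ 0 := by
    have : (X ^ q - X + C c : k[X]).coeff q = 1 := by
      simp [coeff_X, coeff_C, show 1 ≠ q by omega, show q ≠ 0 by omega]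
    intro h
    have := natDegree_eq_zero_iff_degree_le_zero.2 h.le
    have hle := le_natDegree_of_ne_zero (p := (X ^ q - X + C c : k[X])) (n := q) (by simp [*])
    omega
  obtain ⟨y, hy⟩ := IsAlgClosed.exists_root _ hd
  exact ⟨y, by simpa [IsRoot] using hy⟩

omit [IsAlgClosed k] hq in
theorem iterate_pow (hσ : ∀ x, σ x = x ^ q) (i : ℕ) (x : k) : (⇑σ)^[i] x = x ^ q ^ i := by
  induction i with
  | zero => simp
  | succ i ih => rw [Function.iterate_succ_apply', ih, hσ, ← pow_mul, pow_succ]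

theorem pow_fixed_eq (hσ : ∀ x, σ x = x ^ q) (n : ℕ) (b : Fin (n + 1) → k) (hb : b ≠ 0) :
    ∃ x : k, x ≠ 0 ∧ x = ∑ i : Fin (n + 1),
      (⇑σ)^[i.val + 1] x * (⇑σ)^[i.val] (b (Fin.rev i)) := by
  obtain ⟨j, hj⟩ := Function.ne_iff.1 hb
  let P : k[X] := (∑ i : Fin (n + 1), C ((b (Fin.rev i)) ^ q ^ i.val) * X ^ (q ^ (i.val + 1))) - X
  have h1 : ∀ i : ℕ, q ^ (i + 1) ≠ 1 := fun i => (Nat.one_lt_pow (by omega) hq).ne'
  have c1 : P.coeff 1 ≠ 0 := by
    have : ∀ i : Fin (n + 1), (1 = q ^ (i.val + 1)) = False := fun i => eq_false (h1 _).symm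
    simp only [P, coeff_sub, finsetSum_coeff, coeff_C_mul_X_pow, coeff_X_one, this, if_false,
      Finset.sum_const_zero, zero_sub]
    simp
  have c2 : P.coeff (q ^ ((Fin.rev j).val + 1)) ≠ 0 := by
    have hinj := Nat.pow_right_injective (show 2 ≤ q by omega)
    simp only [P, coeff_sub, finsetSum_coeff, coeff_C_mul_X_pow, coeff_X, if_neg (h1 _).symm,
      sub_zero]
    rw [Finset.sum_eq_single (Fin.rev j) (fun i _ hi => if_neg fun h => hi (Fin.ext
      (by have := hinj h; omega))) (by simp), if_pos rfl, Fin.rev_rev]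
    exact pow_ne_zero _ hj
  obtain ⟨x, hx0, hx⟩ := exists_root_ne_zero P (h1 _).symm c1 c2
  refine ⟨x, hx0, ?_⟩
  simp only [P, eval_sub, eval_finsetSum, eval_mul, eval_C, eval_pow, eval_X, sub_eq_zero] at hx
  conv_lhs => rw [← hx]
  exact Finset.sum_congr rfl fun i _ => by rw [iterate_pow σ hσ, iterate_pow σ hσ, mul_comm]

theorem root_fixed_eq (hσ : ∀ x, σ (x ^ q) = x) (n : ℕ) (b : Fin (n + 1) → k) (hb : b ≠ 0) :
    ∃ x : k, x ≠ 0 ∧ x = ∑ i : Fin (n + 1),
      (⇑σ)^[i.val + 1] x * (⇑σ)^[i.val] (b (Fin.rev i)) := by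
  obtain ⟨j, hj⟩ := Function.ne_iff.1 hb
  have hinj := Nat.pow_right_injective (show 2 ≤ q by omega)
  let c : Fin (n + 1) → k := fun i => (⇑σ)^[i.val] (b (Fin.rev i))
  have hc : c (Fin.rev j) ≠ 0 := by
    intro h
    simp only [c, Fin.rev_rev] at h
    exact hj (σ.injective.iterate _ (h.trans (iterate_map_zero σ _).symm))
  let P : k[X] := X ^ (q ^ (n + 1)) - ∑ i : Fin (n + 1), C (c i) * X ^ (q ^ (n - i.val))
  have hne : ∀ i : Fin (n + 1), q ^ (n + 1) ≠ q ^ (n - i.val) := fun i h => by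
    have := hinj h; omega
  have c1 : P.coeff (q ^ (n + 1)) ≠ 0 := by
    simp only [P, coeff_sub, finsetSum_coeff, coeff_C_mul_X_pow, coeff_X_pow, if_neg (hne _),
      Finset.sum_const_zero]
    simp
  have c2 : P.coeff (q ^ (n - (Fin.rev j).val)) ≠ 0 := by
    simp only [P, coeff_sub, finsetSum_coeff, coeff_C_mul_X_pow, coeff_X_pow, if_neg (hne _).symm,
      zero_sub, neg_ne_zero]
    rw [Finset.sum_eq_single (Fin.rev j) (fun i _ hi => if_neg fun h => hi (Fin.ext
      (by have := hinj h; have := i.is_lt; have := (Fin.rev j).is_lt; omega))) (by simp), if_pos rfl]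
    exact hc
  obtain ⟨z, hz0, hz⟩ := exists_root_ne_zero P (hne _) c1 c2
  refine ⟨z ^ q ^ (n + 1), pow_ne_zero _ hz0, ?_⟩
  simp only [P, eval_sub, eval_finsetSum, eval_mul, eval_C, eval_pow, eval_X, sub_eq_zero] at hz
  conv_lhs => rw [hz]
  refine Finset.sum_congr rfl fun i _ => ?_
  have hσq : ∀ (m : ℕ) (y : k), (⇑σ)^[m] (y ^ q ^ m) = y := by
    intro m
    induction m with
    | zero => simp
    | succ m ih => intro y; rw [Function.iterate_succ_apply, pow_succ, pow_mul, hσ, ih]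
  have e : q ^ (n + 1) = q ^ (n - i.val) * q ^ (i.val + 1) := by
    rw [← pow_add]; congr 1; omega
  rw [e, pow_mul, hσq, mul_comm]

theorem root_sub_eq (hσ : ∀ x, σ (x ^ q) = x) (c : k) : ∃ y : k, σ y - y + c = 0 := by
  obtain ⟨z, hz⟩ := exists_pow_sub_eq hq (-c)
  refine ⟨z ^ q, ?_⟩
  rw [hσ, ← neg_eq_zero, ← hz]
  ring

end Groth.Agent.SigmaLinLib
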