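import Mathlib.LinearAlgebra.Dimension.Finite
import Mathlib.LinearAlgebra.FiniteDimensional.Basic
import Mathlib.LinearAlgebra.Quotient.Basic
import Mathlib.RingTheory.Artinian.Module
import Mathlib.LinearAlgebra.Dimension.OrzechProperty
import Mathlib.Tactic.LinearCombination
import Mathlib.Tactic.Abel

/-! # Semilinear endomorphisms of finite-dimensional vector spaces -/

namespace Groth.Agent.SigmaLinLib

open Submodule Module

variable {k : Type*} [Field k] {σ : k →+* k} {V : Type*} [AddCommGroup V] [Module k V]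
  (T : V →ₛₗ[σ] V)

theorem iterate_smul (n : ℕ) (c : k) (v : V) : (⇑T)^[n] (c • v) = (⇑σ)^[n] c • (⇑T)^[n] v := by
  induction n generalizing c v with
  | zero => rfl
  | succ n ih => rw [Function.iterate_succ_apply', ih, map_smulₛₗ,
      Function.iterate_succ_apply' (f := ⇑σ), Function.iterate_succ_apply']

theorem iterate_add_apply' (n : ℕ) (v w : V) : (⇑T)^[n] (v + w) = (⇑T)^[n] v + (⇑T)^[n] w :=
  iterate_map_add T n v w

theorem iterate_zero_apply' (n : ℕ) : (⇑T)^[n] (0 : V) = 0 := iterate_map_zero T n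

/-- The span of the image of the `n`-th iterate. -/
def im (n : ℕ) : Submodule k V := span k (Set.range ((⇑T)^[n]))

theorem im_antitone : Antitone (im T) := by
  refine antitone_nat_of_succ_le fun n => span_mono ?_
  rintro _ ⟨x, rfl⟩
  exact ⟨T x, (Function.iterate_succ_apply _ _ _).symm⟩

theorem map_mem_im_succ {n : ℕ} {v : V} (hv : v ∈ im T n) : T v ∈ im T (n + 1) := by
  induction hv using span_induction with
  | mem x hx =>
    obtain ⟨u, rfl⟩ := hx
    exact subset_span ⟨u, Function.iterate_succ_apply' _ _ _⟩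
  | zero => simp
  | add x y _ _ hx hy => rw [map_add]; exact add_mem hx hy
  | smul c x _ hx => rw [map_smulₛₗ]; exact smul_mem _ _ hx

theorem im_succ (n : ℕ) : im T (n + 1) = span k (⇑T '' (im T n : Set V)) := by
  refine le_antisymm (span_mono ?_) (span_le.2 ?_)
  · rintro _ ⟨x, rfl⟩
    exact ⟨(⇑T)^[n] x, subset_span ⟨x, rfl⟩, (Function.iterate_succ_apply' _ _ _).symm⟩
  · rintro _ ⟨x, hx, rfl⟩
    exact map_mem_im_succ T hx

theorem im_stable [FiniteDimensional k V] :
    ∃ N, ∀ n, N ≤ n → im T n = im T N ∧ (⨅ i, im T i) = im T N := by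
  obtain ⟨N, hN⟩ := IsArtinian.monotone_stabilizes
    (⟨fun n => OrderDual.toDual (im T n), fun a b hab => im_antitone T hab⟩ : ℕ →o (Submodule k V)ᵒᵈ)
  refine ⟨N, fun n hn => ⟨(hN n hn).symm, le_antisymm (iInf_le _ N) (le_iInf fun i => ?_)⟩⟩
  rcases le_total N i with h | h
  · exact le_of_eq (hN i h)
  · exact im_antitone T h

theorem ker_eq_zero_of_span_range [FiniteDimensional k V] (h : span k (Set.range ⇑T) = ⊤) {v : V}
    (hv : T v = 0) : v = 0 := by
  have b := Module.finBasis k V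
  have hs : ⊤ ≤ span k (Set.range fun i => T (b i)) := by
    rw [← h, span_le]
    rintro _ ⟨x, rfl⟩
    rw [← b.sum_repr x, map_sum]
    refine Submodule.sum_mem _ fun i _ => ?_
    rw [map_smulₛₗ]
    exact smul_mem _ _ (subset_span ⟨i, rfl⟩)
  have li := linearIndependent_of_top_le_span_of_card_eq_finrank hs (Fintype.card_fin _)
  rw [← b.sum_repr v, map_sum] at hv
  simp only [map_smulₛₗ] at hv
  have := Fintype.linearIndependent_iff.1 li _ hv
  apply b.repr.injective
  ext i
  simpa using this i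

/-- The restriction of `T` to a stable submodule. -/
def res (W : Submodule k V) (hW : ∀ w ∈ W, T w ∈ W) : W →ₛₗ[σ] W :=
  (T.domRestrict W).codRestrict W fun w => hW w w.2

theorem coe_res {W : Submodule k V} (hW : ∀ w ∈ W, T w ∈ W) (w : W) :
    (res T W hW w : V) = T w := rfl

theorem span_range_res {W : Submodule k V} (hW : ∀ w ∈ W, T w ∈ W)
    (h : span k (⇑T '' (W : Set V)) = W) : span k (Set.range (res T W hW)) = ⊤ := by
  apply map_injective_of_injective W.injective_subtype
  rw [map_span, Submodule.map_top, range_subtype, ← Set.range_comp]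
  refine Eq.trans ?_ h
  congr 1
  ext x
  simp [coe_res]

theorem map_mem_stable [FiniteDimensional k V] {w : V} (hw : w ∈ ⨅ i, im T i) :
    T w ∈ ⨅ i, im T i := by
  simp only [mem_iInf] at hw ⊢
  intro i
  exact im_antitone T (Nat.le_succ i) (map_mem_im_succ T (hw i))

theorem span_range_res_stable [FiniteDimensional k V] :
    span k (Set.range (res T (⨅ i, im T i) fun _ => map_mem_stable T)) = ⊤ := by
  apply span_range_res
  obtain ⟨N, hN⟩ := im_stable T
  rw [(hN N le_rfl).2, ← im_succ, (hN (N + 1) N.le_succ).1]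

theorem eq_zero_of_mem_stable [FiniteDimensional k V] {v : V} (hv : v ∈ ⨅ i, im T i) {n : ℕ}
    (hn : (⇑T)^[n] v = 0) : v = 0 := by
  induction n generalizing v with
  | zero => exact hn
  | succ n ih =>
    rw [Function.iterate_succ_apply] at hn
    have h := ih (map_mem_stable T hv) hn
    exact congrArg Subtype.val (ker_eq_zero_of_span_range (res T _ fun _ => map_mem_stable T)
      (span_range_res_stable T) (v := ⟨v, hv⟩) (Subtype.ext h))

/-- The submodule killed by the `n`-th iterate. -/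
def kerIter (n : ℕ) : Submodule k V where
  carrier := {v | (⇑T)^[n] v = 0}
  zero_mem' := iterate_zero_apply' T n
  add_mem' {a b} ha hb := by
    simp only [Set.mem_setOf_eq] at ha hb ⊢
    rw [iterate_add_apply', ha, hb, add_zero]
  smul_mem' c v hv := by
    simp only [Set.mem_setOf_eq] at hv ⊢
    rw [iterate_smul, hv, smul_zero]

theorem kerIter_mono : Monotone (kerIter T) := monotone_nat_of_le_succ fun n v hv => by
  change (⇑T)^[n + 1] v = 0
  rw [Function.iterate_succ_apply', show (⇑T)^[n] v = 0 from hv, map_zero]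

theorem kerIter_stable [FiniteDimensional k V] :
    ∃ N, ∀ v, (∃ n, (⇑T)^[n] v = 0) → (⇑T)^[N] v = 0 := by
  obtain ⟨N, hN⟩ := monotone_stabilizes_iff_noetherian.2 (inferInstance : IsNoetherian k V)
    ⟨kerIter T, kerIter_mono T⟩
  refine ⟨N, fun v ⟨n, hn⟩ => ?_⟩
  have : v ∈ kerIter T (max n N) := kerIter_mono T (le_max_left _ _) hn
  change v ∈ kerIter T N
  rwa [show kerIter T N = kerIter T (max n N) from hN _ (le_max_right _ _)]

theorem mem_im_iff (hσ : Function.Surjective σ) (n : ℕ) (v : V) :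
    v ∈ im T n ↔ v ∈ Set.range ((⇑T)^[n]) := by
  refine ⟨fun hv => ?_, fun hv => subset_span hv⟩
  induction hv using span_induction with
  | mem x hx => exact hx
  | zero => exact ⟨0, iterate_zero_apply' T n⟩
  | add x y _ _ hx hy =>
    obtain ⟨a, rfl⟩ := hx
    obtain ⟨b, rfl⟩ := hy
    exact ⟨a + b, iterate_add_apply' T n a b⟩
  | smul c x _ hx =>
    obtain ⟨a, rfl⟩ := hx
    obtain ⟨c', rfl⟩ := hσ.iterate n c
    exact ⟨c' • a, iterate_smul T n c' a⟩

/-- Every vector is a sum of a nilpotent vector and a vector in all the images. -/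
theorem exists_split [FiniteDimensional k V] (hσ : Function.Surjective σ) (v : V) :
    ∃ w z, v = w + z ∧ (∃ n, (⇑T)^[n] w = 0) ∧ z ∈ ⨅ i, im T i := by
  obtain ⟨N, hN⟩ := im_stable T
  have hmem : (⇑T)^[N] v ∈ im T (N + N) := by
    rw [(hN _ (Nat.le_add_left N N)).1]; exact subset_span ⟨v, rfl⟩
  obtain ⟨u, hu⟩ := (mem_im_iff T hσ _ _).1 hmem
  refine ⟨v - (⇑T)^[N] u, (⇑T)^[N] u, (sub_add_cancel _ _).symm, ⟨N, ?_⟩, ?_⟩
  · rw [iterate_map_sub T N, ← Function.iterate_add_apply, hu, sub_self]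
  · rw [(hN N le_rfl).2]; exact subset_span ⟨u, rfl⟩

theorem exists_fixed_orbit [FiniteDimensional k V]
    (h2 : ∀ (n : ℕ) (b : Fin (n + 1) → k), b ≠ 0 →
      ∃ x : k, x ≠ 0 ∧ x = ∑ i : Fin (n + 1), (⇑σ)^[i.val + 1] x * (⇑σ)^[i.val] (b (Fin.rev i)))
    (e : V) (he : ∀ m : ℕ, (⇑T)^[m] e ≠ 0) :
    ∃ v ∈ span k (Set.range fun m : ℕ => (⇑T)^[m] e), v ≠ 0 ∧ T v = v := by
  classical
  let U : ℕ → Submodule k V := fun d => span k (Set.range fun i : Fin d => (⇑T)^[i.val] e)
  have hU : Monotone U := fun a b hab => span_mono (by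
    rintro _ ⟨i, rfl⟩; exact ⟨⟨i, lt_of_lt_of_le i.2 hab⟩, rfl⟩)
  have hex : ∃ d, (⇑T)^[d] e ∈ U d := by
    obtain ⟨N, hN⟩ := monotone_stabilizes_iff_noetherian.2 (inferInstance : IsNoetherian k V)
      ⟨U, hU⟩
    refine ⟨N, ?_⟩
    rw [show U N = U (N + 1) from hN _ N.le_succ]
    exact subset_span ⟨Fin.last N, rfl⟩
  obtain ⟨n, hn⟩ : ∃ n, Nat.find hex = n + 1 := by
    refine Nat.exists_eq_succ_of_ne_zero fun h0 => ?_
    have := Nat.find_spec hex
    rw [h0] at this
    exact he 0 (by simpa [U] using this)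
  have hrel := Nat.find_spec hex
  rw [hn] at hrel
  obtain ⟨b, hb⟩ := (mem_span_range_iff_exists_fun k).1 hrel
  have hb0 : b ≠ 0 := fun h => he (n + 1) (by simp [← hb, h])
  obtain ⟨y, hy0, hy⟩ := h2 n b hb0
  let b' : ℕ → k := fun i => if h : i < n + 1 then b ⟨i, h⟩ else 0
  let x : ℕ → k := fun i => ∑ l ∈ Finset.range (i + 1), (⇑σ)^[l + 1] y * (⇑σ)^[l] (b' (i - l))
  have hx0 : x 0 = σ y * b' 0 := by simp [x]
  have hxs : ∀ i, x (i + 1) = σ (x i) + σ y * b' (i + 1) := by
    intro i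
    simp only [x]
    rw [Finset.sum_range_succ', map_sum]
    simp [Function.iterate_succ_apply']
  have hxn : x n = y := by
    refine Eq.trans ?_ hy.symm
    simp only [x]
    rw [← Fin.sum_univ_eq_sum_range]
    refine Finset.sum_congr rfl fun i _ => ?_
    have : n - i.val < n + 1 := by omega
    simp only [b', dif_pos this]
    congr 3
    ext; simp [Fin.val_rev]
  let f : ℕ → V := fun i => (⇑T)^[i] e
  have hb' : f (n + 1) = ∑ i ∈ Finset.range (n + 1), b' i • f i := by
    rw [← Fin.sum_univ_eq_sum_range]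
    refine hb.symm.trans (Finset.sum_congr rfl fun i _ => ?_)
    simp only [b', f, dif_pos i.is_lt, Fin.eta]
  refine ⟨∑ i ∈ Finset.range (n + 1), x i • f i,
    Submodule.sum_mem _ fun i _ => smul_mem _ _ (subset_span ⟨i, rfl⟩), fun hv => ?_, ?_⟩
  · rw [Finset.sum_range_succ, hxn, add_eq_zero_iff_neg_eq] at hv
    refine Nat.find_min hex (m := n) (by omega) ?_
    have : f n = y⁻¹ • -∑ i ∈ Finset.range n, x i • f i := by
      rw [hv, inv_smul_smul₀ hy0]
    rw [show (⇑T)^[n] e = f n from rfl, this]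
    exact smul_mem _ _ (neg_mem (Submodule.sum_mem _ fun i hi =>
      smul_mem _ _ (subset_span ⟨⟨i, Finset.mem_range.1 hi⟩, rfl⟩)))
  · have hT : ∀ i, T (f i) = f (i + 1) := fun i => (Function.iterate_succ_apply' _ _ _).symm
    rw [map_sum]
    simp only [map_smulₛₗ, hT]
    rw [Finset.sum_range_succ, hxn, hb', Finset.sum_range_succ' (fun i => b' i • f i),
      Finset.sum_range_succ' (fun i => x i • f i), hx0]
    simp only [hxs, add_smul, Finset.sum_add_distrib, smul_add, Finset.smul_sum, smul_smul]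
    abel

theorem exists_sub_eq_of_mem_span_fixed (h3 : ∀ c : k, ∃ y : k, σ y - y + c = 0) {w : V}
    (hw : w ∈ span k {v : V | T v = v}) :
    ∃ u ∈ span k {v : V | T v = v}, u - T u = w := by
  suffices H : ∀ c : k, ∃ u ∈ span k {v : V | T v = v}, u - T u = c • w by simpa using H 1
  induction hw using span_induction with
  | mem x hx =>
    intro c
    obtain ⟨y, hy⟩ := h3 c
    refine ⟨y • x, smul_mem _ _ (subset_span hx), ?_⟩
    rw [map_smulₛₗ, show T x = x from hx, ← sub_smul, show y - σ y = c by linear_combination -hy]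
  | zero => exact fun c => ⟨0, zero_mem _, by simp⟩
  | add x y _ _ hx hy =>
    intro c
    obtain ⟨u, hu, e1⟩ := hx c
    obtain ⟨v, hv, e2⟩ := hy c
    exact ⟨u + v, add_mem hu hv, by rw [map_add, smul_add, ← e1, ← e2]; abel⟩
  | smul a x _ hx =>
    intro c
    obtain ⟨u, hu, e1⟩ := hx (c * a)
    exact ⟨u, hu, by rw [e1, mul_smul]⟩

theorem span_fixed_eq_top [FiniteDimensional k V] (h1 : span k (Set.range ⇑T) = ⊤)
    (h2 : ∀ (n : ℕ) (b : Fin (n + 1) → k), b ≠ 0 →
      ∃ x : k, x ≠ 0 ∧ x = ∑ i : Fin (n + 1), (⇑σ)^[i.val + 1] x * (⇑σ)^[i.val] (b (Fin.rev i)))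
    (h3 : ∀ c : k, ∃ y : k, σ y - y + c = 0) : span k {v : V | T v = v} = ⊤ := by
  set W := span k {v : V | T v = v} with hW
  have hstab : W ≤ W.comap T := span_le.2 fun v hv => by
    change T v ∈ W
    rw [show T v = v from hv]; exact subset_span hv
  let S := W.mapQ W T hstab
  have hS : span k (Set.range S) = ⊤ := by
    refine eq_top_iff.2 fun q _ => ?_
    obtain ⟨v, rfl⟩ := mkQ_surjective W q
    have hv : v ∈ span k (Set.range ⇑T) := h1 ▸ mem_top
    induction hv using span_induction with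
    | mem x hx => obtain ⟨u, rfl⟩ := hx; exact subset_span ⟨W.mkQ u, rfl⟩
    | zero => simp
    | add x y _ _ hx hy => rw [map_add]; exact add_mem (hx trivial) (hy trivial)
    | smul c x _ hx => rw [map_smul]; exact smul_mem _ _ (hx trivial)
  by_contra hne
  obtain ⟨v, hv⟩ : ∃ v, v ∉ W := by
    by_contra h
    push Not at h
    exact hne (eq_top_iff.2 fun v _ => h v)
  have hit : ∀ m : ℕ, (⇑S)^[m] (W.mkQ v) ≠ 0 := by
    intro m
    induction m with
    | zero => exact fun h => hv ((Submodule.Quotient.mk_eq_zero W).1 h)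
    | succ m ih =>
      intro h
      rw [Function.iterate_succ_apply'] at h
      exact ih (ker_eq_zero_of_span_range S hS h)
  obtain ⟨q, -, hq0, hq⟩ := exists_fixed_orbit S h2 _ hit
  obtain ⟨u, rfl⟩ := mkQ_surjective W q
  have hu : u - T u ∈ W := (Submodule.Quotient.eq W).1 hq.symm
  obtain ⟨w, hw, hwe⟩ := exists_sub_eq_of_mem_span_fixed T h3 hu
  refine hq0 ((Submodule.Quotient.mk_eq_zero W).2 ?_)
  have hfix : T (u - w) = u - w := by
    rw [map_sub, ← sub_eq_zero]
    have : (u - T u) - (w - T w) = 0 := by rw [hwe, sub_self]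
    rw [← neg_eq_zero, ← this]; abel
  simpa using add_mem (subset_span hfix : u - w ∈ W) hw

theorem exists_basis_fixed [FiniteDimensional k V] (h : span k {v : V | T v = v} = ⊤) :
    ∃ b : Module.Basis (Fin (finrank k V)) k V, ∀ i, T (b i) = b i := by
  obtain ⟨s, hs, hspan, hli⟩ := exists_linearIndependent k {v : V | T v = v}
  let B : Module.Basis s k V := Module.Basis.mk hli (by
    rw [Subtype.range_coe, hspan, h])
  refine ⟨B.reindex (B.indexEquiv (Module.finBasis k V)), fun i => ?_⟩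
  simp only [Module.Basis.reindex_apply, B, Module.Basis.mk_apply]
  exact hs (Subtype.coe_prop _)

theorem sub_surjective_of_span_range [FiniteDimensional k V] (h1 : span k (Set.range ⇑T) = ⊤)
    (h2 : ∀ (n : ℕ) (b : Fin (n + 1) → k), b ≠ 0 →
      ∃ x : k, x ≠ 0 ∧ x = ∑ i : Fin (n + 1), (⇑σ)^[i.val + 1] x * (⇑σ)^[i.val] (b (Fin.rev i)))
    (h3 : ∀ c : k, ∃ y : k, σ y - y + c = 0) : Function.Surjective fun v : V => v - T v := by
  intro v
  obtain ⟨u, -, hu⟩ := exists_sub_eq_of_mem_span_fixed T h3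
    (w := v) (span_fixed_eq_top T h1 h2 h3 ▸ mem_top)
  exact ⟨u, hu⟩

theorem sub_surjective [FiniteDimensional k V] (hσ : Function.Surjective σ)
    (h2 : ∀ (n : ℕ) (b : Fin (n + 1) → k), b ≠ 0 →
      ∃ x : k, x ≠ 0 ∧ x = ∑ i : Fin (n + 1), (⇑σ)^[i.val + 1] x * (⇑σ)^[i.val] (b (Fin.rev i)))
    (h3 : ∀ c : k, ∃ y : k, σ y - y + c = 0) : Function.Surjective fun v : V => v - T v := by
  intro v
  obtain ⟨w, z, rfl, ⟨N, hN⟩, hz⟩ := exists_split T hσ v
  obtain ⟨u, hu⟩ := sub_surjective_of_span_range (res T _ fun _ => map_mem_stable T)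
    (span_range_res_stable T) h2 h3 ⟨z, hz⟩
  refine ⟨(∑ i ∈ Finset.range N, (⇑T)^[i] w) + (u : V), ?_⟩
  have hu' : (u : V) - T u = z := congrArg Subtype.val hu
  have hw : (∑ i ∈ Finset.range N, (⇑T)^[i] w) - T (∑ i ∈ Finset.range N, (⇑T)^[i] w) = w := by
    simp only [map_sum, ← Function.iterate_succ_apply' (f := ⇑T)]
    rw [← Finset.sum_sub_distrib, Finset.sum_range_sub' (fun i => (⇑T)^[i] w) N, hN, sub_zero]
    rfl
  simp only [map_add]
  conv_rhs => rw [← hw, ← hu']
  abel

theorem exists_finset_fixed_span {s0 : Set V} [FiniteDimensional k V] (hs0 : ∀ v ∈ s0, T v = v) :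
    ∃ s : Finset V, (↑s : Set V) ⊆ s0 ∧
      ∀ v ∈ s0, ∃ c : V → k, (∀ x ∈ s, σ (c x) = c x) ∧ v = ∑ x ∈ s, c x • x := by
  classical
  obtain ⟨s, hs, hspan, hli⟩ := exists_linearIndependent k s0
  have hfin : s.Finite := hli.setFinite
  refine ⟨hfin.toFinset, by simpa using hs, fun v hv => ?_⟩
  have hv' : v ∈ span k (↑hfin.toFinset : Set V) := by
    rw [hfin.coe_toFinset, hspan]; exact subset_span hv
  obtain ⟨c, -, hc⟩ := mem_span_finset.1 hv'
  refine ⟨c, fun x hx => ?_, hc.symm⟩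
  have h0 : ∑ x ∈ hfin.toFinset, (σ (c x) - c x) • x = 0 := by
    have e := congrArg T hc
    rw [map_sum, hs0 v hv, ← hc] at e
    simp only [sub_smul, Finset.sum_sub_distrib, sub_eq_zero]
    refine Eq.trans (Finset.sum_congr rfl fun x hx => ?_) e
    rw [map_smulₛₗ, hs0 x (hs (hfin.mem_toFinset.1 hx))]
  have hli' := linearIndepOn_finset_iff.1 (show LinearIndepOn k id (↑hfin.toFinset : Set V) by
    rw [hfin.coe_toFinset]; exact hli)
  exact sub_eq_zero.1 (hli' _ h0 x hx)

end Groth.Agent.SigmaLinLib
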