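import Mathlib.FieldTheory.IsAlgClosed.Basic
import Mathlib.FieldTheory.Perfect
import Mathlib.Algebra.Polynomial.Div

/-! # The two solvability conditions for Frobenius and its inverse -/

namespace Groth.Agent.SigmaLinLib

open Polynomial

variable {k : Type*} [Field k] [IsAlgClosed k]

theorem exists_root_ne_zero (P : k[X]) {a b : ℕ} (hab : a ≠ b) (ha : P.coeff a ≠ 0)
    (hb : P.coeff b ≠ 0) : ∃ x : k, x ≠ 0 ∧ P.eval x = 0 := by
  have hP : P ≠ 0 := fun h => ha (by simp [h])
  obtain ⟨Q, hQ, hnd⟩ := exists_eq_pow_rootMultiplicity_mul_and_not_dvd P hP 0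
  rw [map_zero, sub_zero] at hQ hnd
  by_cases hd : Q.degree = 0
  · rw [eq_C_of_degree_eq_zero hd] at hQ
    set e := P.rootMultiplicity 0
    have hc : ∀ i, i ≠ e → P.coeff i = 0 := by
      intro i hi
      rw [hQ, mul_comm, coeff_C_mul, coeff_X_pow, if_neg hi, mul_zero]
    rcases eq_or_ne a e with rfl | h
    · exact absurd (hc b hab.symm) hb
    · exact absurd (hc a h) ha
  · obtain ⟨x, hx⟩ := IsAlgClosed.exists_root Q hd
    refine ⟨x, fun h0 => hnd ?_, by rw [hQ, eval_mul, hx, mul_zero]⟩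
    rw [h0] at hx
    exact X_dvd_iff.2 (by rwa [coeff_zero_eq_eval_zero])

variable (p : ℕ) [hp : Fact p.Prime] [CharP k p]

theorem iterate_frob (i : ℕ) (x : k) : (⇑(frobenius k p))^[i] x = x ^ p ^ i := by
  induction i with
  | zero => simp
  | succ i ih => rw [Function.iterate_succ_apply', ih, frobenius_def, ← pow_mul, pow_succ]

theorem frob_fixed_eq (n : ℕ) (b : Fin (n + 1) → k) (hb : b ≠ 0) :
    ∃ x : k, x ≠ 0 ∧ x = ∑ i : Fin (n + 1),
      (⇑(frobenius k p))^[i.val + 1] x * (⇑(frobenius k p))^[i.val] (b (Fin.rev i)) := by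
  obtain ⟨j, hj⟩ := Function.ne_iff.1 hb
  let P : k[X] := (∑ i : Fin (n + 1), C ((b (Fin.rev i)) ^ p ^ i.val) * X ^ (p ^ (i.val + 1))) - X
  have h1 : ∀ i : ℕ, p ^ (i + 1) ≠ 1 := fun i => (Nat.one_lt_pow (by omega) hp.out.one_lt).ne'
  have c1 : P.coeff 1 ≠ 0 := by
    have : ∀ i : Fin (n + 1), (1 = p ^ (i.val + 1)) = False := fun i => eq_false (h1 _).symm
    simp only [P, coeff_sub, finsetSum_coeff, coeff_C_mul_X_pow, coeff_X_one, this, if_false,
      Finset.sum_const_zero, zero_sub]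
    simp
  have c2 : P.coeff (p ^ ((Fin.rev j).val + 1)) ≠ 0 := by
    have hinj := Nat.pow_right_injective hp.out.two_le
    simp only [P, coeff_sub, finsetSum_coeff, coeff_C_mul_X_pow, coeff_X, if_neg (h1 _).symm,
      sub_zero]
    rw [Finset.sum_eq_single (Fin.rev j) (fun i _ hi => if_neg fun h => hi (Fin.ext
      (by have := hinj h; omega))) (by simp), if_pos rfl, Fin.rev_rev]
    exact pow_ne_zero _ hj
  obtain ⟨x, hx0, hx⟩ := exists_root_ne_zero P (h1 _).symm c1 c2
  refine ⟨x, hx0, ?_⟩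
  simp only [P, eval_sub, eval_finsetSum, eval_mul, eval_C, eval_pow, eval_X, sub_eq_zero] at hx
  conv_lhs => rw [← hx]
  exact Finset.sum_congr rfl fun i _ => by rw [iterate_frob, iterate_frob, mul_comm]

theorem frob_sub_eq (c : k) : ∃ y : k, frobenius k p y - y + c = 0 := by
  have hp1 := hp.out.one_lt
  have hd : (X ^ p - X + C c : k[X]).degree ≠ 0 := by
    have : (X ^ p - X + C c : k[X]).coeff p = 1 := by
      simp [coeff_X, coeff_C, show 1 ≠ p by omega, show p ≠ 0 by omega]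
    intro h
    have := natDegree_eq_zero_iff_degree_le_zero.2 h.le
    have hle := le_natDegree_of_ne_zero (p := (X ^ p - X + C c : k[X])) (n := p) (by simp [*])
    omega
  obtain ⟨y, hy⟩ := IsAlgClosed.exists_root _ hd
  exact ⟨y, by simpa [IsRoot, frobenius_def] using hy⟩

theorem frobInv_fixed_eq (n : ℕ) (b : Fin (n + 1) → k) (hb : b ≠ 0) :
    ∃ x : k, x ≠ 0 ∧ x = ∑ i : Fin (n + 1),
      (⇑(frobeniusEquiv k p).symm.toRingHom)^[i.val + 1] x *
        (⇑(frobeniusEquiv k p).symm.toRingHom)^[i.val] (b (Fin.rev i)) := by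
  set τ := (frobeniusEquiv k p).symm.toRingHom with hτ
  obtain ⟨j, hj⟩ := Function.ne_iff.1 hb
  have hinj := Nat.pow_right_injective hp.out.two_le
  let c : Fin (n + 1) → k := fun i => (⇑τ)^[i.val] (b (Fin.rev i))
  have hc : c (Fin.rev j) ≠ 0 := by
    intro h
    simp only [c, Fin.rev_rev] at h
    exact hj (τ.injective.iterate _ (h.trans (iterate_map_zero τ _).symm))
  let P : k[X] := X ^ (p ^ (n + 1)) - ∑ i : Fin (n + 1), C (c i) * X ^ (p ^ (n - i.val))
  have hne : ∀ i : Fin (n + 1), p ^ (n + 1) ≠ p ^ (n - i.val) := fun i h => by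
    have := hinj h; omega
  have c1 : P.coeff (p ^ (n + 1)) ≠ 0 := by
    simp only [P, coeff_sub, finsetSum_coeff, coeff_C_mul_X_pow, coeff_X_pow, if_neg (hne _),
      Finset.sum_const_zero]
    simp
  have c2 : P.coeff (p ^ (n - (Fin.rev j).val)) ≠ 0 := by
    simp only [P, coeff_sub, finsetSum_coeff, coeff_C_mul_X_pow, coeff_X_pow, if_neg (hne _).symm,
      zero_sub, neg_ne_zero]
    rw [Finset.sum_eq_single (Fin.rev j) (fun i _ hi => if_neg fun h => hi (Fin.ext
      (by have := hinj h; have := i.is_lt; have := (Fin.rev j).is_lt; omega))) (by simp), if_pos rfl]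
    exact hc
  obtain ⟨z, hz0, hz⟩ := exists_root_ne_zero P (hne _) c1 c2
  refine ⟨z ^ p ^ (n + 1), pow_ne_zero _ hz0, ?_⟩
  simp only [P, eval_sub, eval_finsetSum, eval_mul, eval_C, eval_pow, eval_X, sub_eq_zero] at hz
  conv_lhs => rw [hz]
  refine Finset.sum_congr rfl fun i _ => ?_
  have hτp : ∀ (m : ℕ) (y : k), (⇑τ)^[m] (y ^ p ^ m) = y := by
    intro m y
    rw [← iterate_frob p m y]
    exact (show Function.LeftInverse τ (frobenius k p) from
      (frobeniusEquiv k p).symm_apply_apply).iterate m y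
  have e : p ^ (n + 1) = p ^ (n - i.val) * p ^ (i.val + 1) := by
    rw [← pow_add]; congr 1; omega
  rw [e, pow_mul, hτp, mul_comm]

theorem frobInv_sub_eq (c : k) :
    ∃ y : k, (frobeniusEquiv k p).symm.toRingHom y - y + c = 0 := by
  obtain ⟨z, hz⟩ := frob_sub_eq p (-c)
  refine ⟨frobenius k p z, ?_⟩
  have : (frobeniusEquiv k p).symm.toRingHom (frobenius k p z) = z :=
    (frobeniusEquiv k p).symm_apply_apply z
  rw [this, ← neg_eq_zero, ← hz]
  ring

end Groth.Agent.SigmaLinLib
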