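import Groth.Agent.SigmaLinLib.Basic
import Mathlib.RingTheory.LocalRing.ResidueField.Basic
import Mathlib.Algebra.Module.Torsion.Basic
import Mathlib.RingTheory.Finiteness.Basic
import Mathlib.Tactic.Ring

/-! # Semilinear endomorphisms over a local ring with nilpotent principal maximal ideal -/

namespace Groth.Agent.SigmaLinLib

open Submodule IsLocalRing

variable {R : Type*} [CommRing R] [IsLocalRing R] {σ : R →+* R}
  {σbar : ResidueField R →+* ResidueField R}
  (hσbar : ∀ r : R, σbar (residue R r) = residue R (σ r))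
  {M : Type*} [AddCommGroup M] [Module R M] (T : M →ₛₗ[σ] M) (J : Submodule R M)

/-- Quotient by a submodule containing `𝔪 M`, as a vector space over the residue field. -/
noncomputable abbrev quotModule (hJ : ∀ r ∈ maximalIdeal R, ∀ y : M, r • y ∈ J) :
    Module (ResidueField R) (M ⧸ J) :=
  Module.IsTorsionBySet.module (I := maximalIdeal R) fun q a => by
    obtain ⟨y, rfl⟩ := mkQ_surjective J q
    exact (Submodule.Quotient.mk_eq_zero J).2 (hJ a a.2 y)

include hσbar in
/-- The quotient step: everything needed from the residue field at `J`. -/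
theorem quot_sub_surjective [Module.Finite R M] (hJ : ∀ r ∈ maximalIdeal R, ∀ y : M, r • y ∈ J)
    (hT : J ≤ J.comap T) (hsurj : Function.Surjective σbar)
    (h2 : ∀ (n : ℕ) (b : Fin (n + 1) → ResidueField R), b ≠ 0 →
      ∃ x : ResidueField R, x ≠ 0 ∧ x = ∑ i : Fin (n + 1),
        (⇑σbar)^[i.val + 1] x * (⇑σbar)^[i.val] (b (Fin.rev i)))
    (h3 : ∀ c : ResidueField R, ∃ y : ResidueField R, σbar y - y + c = 0) (m : M) :
    ∃ x : M, m - (x - T x) ∈ J := by
  letI := quotModule J hJ
  obtain ⟨s, hs⟩ := Module.Finite.fg_top (R := R) (M := M)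
  have hsm : ∀ (r : R) (y : M), residue R r • (mkQ J y : M ⧸ J) = mkQ J (r • y) := fun _ _ => rfl
  haveI : Module.Finite (ResidueField R) (M ⧸ J) := by
    classical
    refine ⟨⟨s.image (mkQ J), eq_top_iff.2 fun q _ => ?_⟩⟩
    obtain ⟨y, rfl⟩ := mkQ_surjective J q
    have hy : y ∈ span R (s : Set M) := hs ▸ mem_top
    induction hy using span_induction with
    | mem x hx => exact subset_span (by simpa using ⟨x, hx, rfl⟩)
    | zero => simp
    | add x y _ _ hx hy => rw [map_add]; exact add_mem (hx trivial) (hy trivial)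
    | smul c x _ hx => rw [← hsm]; exact smul_mem _ _ (hx trivial)
  let Tb : (M ⧸ J) →ₛₗ[σbar] (M ⧸ J) :=
    { toFun := J.mapQ J T hT
      map_add' := map_add _
      map_smul' := fun c q => by
        obtain ⟨r, rfl⟩ := residue_surjective c
        obtain ⟨y, rfl⟩ := mkQ_surjective J q
        rw [hsm, hσbar]
        simp only [mkQ_apply, mapQ_apply, map_smulₛₗ]
        exact (hsm _ _).symm }
  obtain ⟨q, hq⟩ := sub_surjective Tb hsurj h2 h3 (mkQ J m)
  obtain ⟨x, rfl⟩ := mkQ_surjective J q
  exact ⟨x, (Submodule.Quotient.eq J).1 hq.symm⟩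

include hσbar in
/-- The quotient step for fixed points. -/
theorem quot_fixed [Module.Finite R M] (hJ : ∀ r ∈ maximalIdeal R, ∀ y : M, r • y ∈ J)
    (hT : J ≤ J.comap T) {S : Set M} (hS : ∀ y ∈ S, T y - y ∈ J) :
    ∃ F : Finset M, (↑F : Set M) ⊆ S ∧ ∀ y ∈ S, ∃ c : M → ResidueField R,
      (∀ x ∈ F, σbar (c x) = c x) ∧ ∃ r : M → R, (∀ x ∈ F, residue R (r x) = c x) ∧
        y - ∑ x ∈ F, r x • x ∈ J := by
  classical
  letI := quotModule J hJ
  obtain ⟨s, hs⟩ := Module.Finite.fg_top (R := R) (M := M)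
  have hsm : ∀ (r : R) (y : M), residue R r • (mkQ J y : M ⧸ J) = mkQ J (r • y) := fun _ _ => rfl
  haveI : Module.Finite (ResidueField R) (M ⧸ J) := by
    refine ⟨⟨s.image (mkQ J), eq_top_iff.2 fun q _ => ?_⟩⟩
    obtain ⟨y, rfl⟩ := mkQ_surjective J q
    have hy : y ∈ span R (s : Set M) := hs ▸ mem_top
    induction hy using span_induction with
    | mem x hx => exact subset_span (by simpa using ⟨x, hx, rfl⟩)
    | zero => simp
    | add x y _ _ hx hy => rw [map_add]; exact add_mem (hx trivial) (hy trivial)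
    | smul c x _ hx => rw [← hsm]; exact smul_mem _ _ (hx trivial)
  let Tb : (M ⧸ J) →ₛₗ[σbar] (M ⧸ J) :=
    { toFun := J.mapQ J T hT
      map_add' := map_add _
      map_smul' := fun c q => by
        obtain ⟨r, rfl⟩ := residue_surjective c
        obtain ⟨y, rfl⟩ := mkQ_surjective J q
        rw [hsm, hσbar]
        simp only [mkQ_apply, mapQ_apply, map_smulₛₗ]
        exact (hsm _ _).symm }
  obtain ⟨G, hG, hG'⟩ := exists_finset_fixed_span Tb (s0 := mkQ J '' S) (by
    rintro _ ⟨y, hy, rfl⟩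
    exact (Submodule.Quotient.eq J).2 (hS y hy))
  choose f hf hf' using fun g : G => hG g.2
  have hinj : Function.Injective f := fun a b hab => Subtype.ext (by
    rw [← hf' a, ← hf' b, hab])
  refine ⟨Finset.univ.image f, by simpa [Set.range_subset_iff] using hf, fun y hy => ?_⟩
  obtain ⟨c, hc, hc'⟩ := hG' _ ⟨y, hy, rfl⟩
  choose ρ hρ using residue_surjective (R := R)
  refine ⟨fun x => c (mkQ J x), fun x hx => ?_, fun x => ρ (c (mkQ J x)), fun x _ => hρ _, ?_⟩
  · obtain ⟨g, -, rfl⟩ := Finset.mem_image.1 hx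
    simp only [hf' g]; exact hc _ g.2
  · rw [← Submodule.Quotient.eq, ← mkQ_apply, hc', Finset.sum_image hinj.injOn,
      ← mkQ_apply, map_sum]
    simp only [← hsm, hρ, hf']
    rw [← Finset.sum_coe_sort G]

include hσbar in
theorem local_sub_surjective [Module.Finite R M] (p : ℕ) {n : ℕ}
    (hmax : maximalIdeal R = Ideal.span {(p : R)}) (hn : (p : R) ^ n = 0)
    (hsurj : Function.Surjective σbar)
    (h2 : ∀ (n : ℕ) (b : Fin (n + 1) → ResidueField R), b ≠ 0 →
      ∃ x : ResidueField R, x ≠ 0 ∧ x = ∑ i : Fin (n + 1),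
        (⇑σbar)^[i.val + 1] x * (⇑σbar)^[i.val] (b (Fin.rev i)))
    (h3 : ∀ c : ResidueField R, ∃ y : ResidueField R, σbar y - y + c = 0) :
    Function.Surjective fun m : M => m - T m := by
  let J : Submodule R M := LinearMap.range (DistribSMul.toLinearMap R M (p : R))
  have hJ : ∀ r ∈ maximalIdeal R, ∀ y : M, r • y ∈ J := by
    intro r hr y
    rw [hmax, Ideal.mem_span_singleton'] at hr
    obtain ⟨a, rfl⟩ := hr
    exact ⟨a • y, by simp [smul_smul, mul_comm]⟩
  have hT : J ≤ J.comap T := by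
    rintro _ ⟨y, rfl⟩
    exact ⟨T y, by simp⟩
  have key : ∀ i, ∀ m : M, ∃ x y : M, m - (x - T x) = (p : R) ^ i • y := by
    intro i
    induction i with
    | zero => exact fun m => ⟨0, m, by simp⟩
    | succ i ih =>
      intro m
      obtain ⟨x, y, hxy⟩ := ih m
      obtain ⟨x', y', hy'⟩ := quot_sub_surjective hσbar T J hJ hT hsurj h2 h3 y
      refine ⟨x + (p : R) ^ i • x', y', ?_⟩
      have e : m - (x + (p : R) ^ i • x' - T (x + (p : R) ^ i • x')) =
          (p : R) ^ i • (y - (x' - T x')) := by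
        simp only [map_add, map_smulₛₗ, map_pow, map_natCast, smul_sub]
        rw [← hxy]; abel
      rw [e, ← hy', DistribSMul.toLinearMap_apply, smul_smul, pow_succ]
  intro m
  obtain ⟨x, y, hxy⟩ := key n m
  rw [hn, zero_smul, sub_eq_zero] at hxy
  exact ⟨x, hxy.symm⟩

include hσbar in
theorem local_fixed_fg [Module.Finite R M] (p : ℕ) {n : ℕ}
    (hmax : maximalIdeal R = Ideal.span {(p : R)}) (hn : (p : R) ^ n = 0)
    (hlift : ∀ x : ResidueField R, σbar x = x → ∃ r : R, σ r = r ∧ residue R r = x) :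
    ∃ s : Finset M, (∀ m ∈ s, T m = m) ∧
      ∀ m : M, T m = m → m ∈ span (σ.eqLocus (RingHom.id R)) (↑s : Set M) := by
  classical
  suffices key : ∀ d i, i + d = n → ∃ s : Finset M, (∀ m ∈ s, T m = m) ∧
      ∀ y : M, T ((p : R) ^ i • y) = (p : R) ^ i • y →
        (p : R) ^ i • y ∈ span (σ.eqLocus (RingHom.id R)) (↑s : Set M) by
    obtain ⟨s, hs, hs'⟩ := key n 0 (zero_add n)
    exact ⟨s, hs, fun m hm => by simpa using hs' m (by simpa using hm)⟩
  intro d
  induction d with
  | zero =>
    intro i hi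
    obtain rfl : i = n := by omega
    exact ⟨∅, by simp, fun y _ => by rw [hn, zero_smul]; exact zero_mem _⟩
  | succ d ih =>
    intro i hi
    obtain ⟨s, hs, hs'⟩ := ih (i + 1) (by omega)
    let J : Submodule R M := (LinearMap.range (DistribSMul.toLinearMap R M ((p : R) ^ (i + 1)))).comap
      (DistribSMul.toLinearMap R M ((p : R) ^ i))
    have hJ : ∀ r ∈ maximalIdeal R, ∀ y : M, r • y ∈ J := by
      intro r hr y
      rw [hmax, Ideal.mem_span_singleton'] at hr
      obtain ⟨a, rfl⟩ := hr
      exact ⟨a • y, by simp only [DistribSMul.toLinearMap_apply, smul_smul]; congr 1; ring⟩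
    have hT : J ≤ J.comap T := by
      rintro y ⟨z, hz⟩
      refine ⟨T z, ?_⟩
      have := congrArg T hz
      simp only [DistribSMul.toLinearMap_apply, map_smulₛₗ, map_pow, map_natCast] at this
      simpa using this
    obtain ⟨F, hF, hF'⟩ := quot_fixed hσbar T J hJ hT
      (S := {y | T ((p : R) ^ i • y) = (p : R) ^ i • y}) (by
        intro y hy
        refine ⟨0, ?_⟩
        simp only [Set.mem_ofPred_eq, map_smulₛₗ, map_pow, map_natCast] at hy
        simp [smul_sub, hy])
    refine ⟨s ∪ F.image ((p : R) ^ i • ·), fun m hm => ?_, fun y hy => ?_⟩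
    · rcases Finset.mem_union.1 hm with h | h
      · exact hs m h
      · obtain ⟨x, hx, rfl⟩ := Finset.mem_image.1 h
        exact hF hx
    · obtain ⟨c, hc, r, hr, hy'⟩ := hF' y hy
      choose! ρ hρ hρ' using hlift
      have hdiff : y - ∑ x ∈ F, ρ (c x) • x ∈ J := by
        have : ∑ x ∈ F, (r x - ρ (c x)) • x ∈ J := Submodule.sum_mem _ fun x hx => hJ _ (by
          rw [← residue_eq_zero_iff, map_sub, hr x hx, hρ' _ (hc x hx), sub_self]) x
        convert add_mem hy' this using 1
        simp only [sub_smul, Finset.sum_sub_distrib]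
        abel
      obtain ⟨z, hz⟩ := hdiff
      have hsum : ∑ x ∈ F, (p : R) ^ i • (ρ (c x) • x) ∈
          span (σ.eqLocus (RingHom.id R)) (↑(s ∪ F.image ((p : R) ^ i • ·)) : Set M) := by
        refine Submodule.sum_mem _ fun x hx => ?_
        rw [smul_comm]
        exact smul_mem _ (⟨ρ (c x), hρ _ (hc x hx)⟩ : σ.eqLocus (RingHom.id R))
          (subset_span (by simp only [Finset.coe_union, Finset.coe_image]; exact .inr ⟨x, hx, rfl⟩))
      simp only [DistribSMul.toLinearMap_apply, smul_sub, Finset.smul_sum] at hz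
      have hsfix : T (∑ x ∈ F, (p : R) ^ i • (ρ (c x) • x)) = ∑ x ∈ F, (p : R) ^ i • (ρ (c x) • x) := by
        rw [map_sum]
        refine Finset.sum_congr rfl fun x hx => ?_
        have := hF hx
        simp only [Set.mem_ofPred_eq] at this
        rw [smul_comm, map_smulₛₗ, hρ _ (hc x hx), this]
      have hz' : T ((p : R) ^ (i + 1) • z) = (p : R) ^ (i + 1) • z := by
        rw [hz, map_sub, hsfix, hy]
      have := span_mono (R := σ.eqLocus (RingHom.id R)) 
        (t := (↑(s ∪ F.image ((p : R) ^ i • ·)) : Set M))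
        (Finset.coe_subset.2 Finset.subset_union_left) (hs' z hz')
      rw [hz] at this
      simpa using add_mem this hsum

end Groth.Agent.SigmaLinLib
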