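import Groth.Agent.SigmaLinLib.Local
import Groth.Agent.SigmaLinLib.AlgClosed
import Groth.Prelude.Def_WittGrp
import Mathlib.RingTheory.WittVector.DiscreteValuationRing
import Mathlib.RingTheory.WittVector.Teichmuller
import Mathlib.RingTheory.Finiteness.Cardinality

/-! # Truncated Witt vectors over an algebraically closed field -/

namespace Groth.Agent.SigmaLinLib

open IsLocalRing WittVector

variable (p : ℕ) [hp : Fact p.Prime] {k : Type*} [Field k] [CharP k p] [IsAlgClosed k] (m : ℕ)

/-- The zeroth coefficient. -/
noncomputable def coeff0 : TruncatedWittVector p (m + 1) k →+* k :=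
  RingHom.liftOfSurjective (WittVector.truncate (m + 1)) (truncate_surjective p (m + 1) k)
    ⟨constantCoeff, fun x hx => by
      have h := congrArg (TruncatedWittVector.coeff (0 : Fin (m + 1))) (RingHom.mem_ker.1 hx)
      rw [RingHom.mem_ker]
      simpa [WittVector.coeff_truncate] using h⟩

theorem coeff0_apply (x : TruncatedWittVector p (m + 1) k) :
    coeff0 p m x = x.coeff 0 := by
  obtain ⟨X, rfl⟩ := truncate_surjective p (m + 1) k x
  have h := DFunLike.congr_fun (RingHom.liftOfRightInverse_comp (WittVector.truncate (m + 1))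
    (Function.surjInv (truncate_surjective p (m + 1) k))
    (Function.rightInverse_surjInv (truncate_surjective p (m + 1) k))
    ⟨constantCoeff, fun x hx => by
      have h := congrArg (TruncatedWittVector.coeff (0 : Fin (m + 1))) (RingHom.mem_ker.1 hx)
      rw [RingHom.mem_ker]
      simpa [WittVector.coeff_truncate] using h⟩) X
  rw [WittVector.coeff_truncate]
  exact h

theorem coeff0_surjective : Function.Surjective (coeff0 p m (k := k)) := fun a =>
  ⟨WittVector.truncate (m + 1) (teichmuller p a), by
    rw [coeff0_apply, WittVector.coeff_truncate]; exact teichmuller_coeff_zero p a⟩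

theorem isLocalRing_trunc : IsLocalRing (TruncatedWittVector p (m + 1) k) :=
  haveI : Nontrivial (TruncatedWittVector p (m + 1) k) := (coeff0 p m).domain_nontrivial
  IsLocalRing.of_surjective' (WittVector.truncate (m + 1)) (truncate_surjective p (m + 1) k)

theorem pow_eq_zero_trunc (n : ℕ) : (p : TruncatedWittVector p n k) ^ n = 0 := by
  rw [← map_natCast (WittVector.truncate (p := p) (R := k) n), ← map_pow]
  refine TruncatedWittVector.ext fun i => ?_
  rw [WittVector.coeff_truncate, TruncatedWittVector.coeff_zero]
  exact coeff_p_pow_eq_zero p k (by omega)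

variable [IsLocalRing (TruncatedWittVector p (m + 1) k)]

theorem ker_coeff0 : RingHom.ker (coeff0 p m (k := k)) = maximalIdeal _ :=
  IsLocalRing.eq_maximalIdeal (RingHom.ker_isMaximal_of_surjective _ (coeff0_surjective p m))

theorem maximalIdeal_trunc :
    maximalIdeal (TruncatedWittVector p (m + 1) k) = Ideal.span {(p : TruncatedWittVector p (m + 1) k)} := by
  have hW : maximalIdeal (WittVector p k) = Ideal.span {(p : WittVector p k)} :=
    (WittVector.irreducible p).maximalIdeal_eq
  have hmap : (maximalIdeal (WittVector p k)).map (WittVector.truncate (m + 1)) =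
      maximalIdeal (TruncatedWittVector p (m + 1) k) :=
    IsLocalRing.map_maximalIdeal_of_surjective _ (truncate_surjective p (m + 1) k)
  rw [← hmap, hW, Ideal.map_span, Set.image_singleton, map_natCast]

/-- The residue field is `k`. -/
noncomputable def residueEquiv : ResidueField (TruncatedWittVector p (m + 1) k) ≃+* k :=
  (Ideal.quotEquivOfEq (ker_coeff0 p m).symm).trans
    (RingHom.quotientKerEquivOfSurjective (coeff0_surjective p m))

theorem residueEquiv_residue (r : TruncatedWittVector p (m + 1) k) :
    residueEquiv p m (residue _ r) = coeff0 p m r := rfl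

variable (f : k →+* k)

/-- The map induced on the residue field. -/
noncomputable def sbar : ResidueField (TruncatedWittVector p (m + 1) k) →+*
    ResidueField (TruncatedWittVector p (m + 1) k) :=
  ((residueEquiv p m).symm.toRingHom.comp f).comp (residueEquiv p m).toRingHom

theorem sbar_residue (r : TruncatedWittVector p (m + 1) k) :
    sbar p m f (residue _ r) = residue _ (WittGrp.truncMap p (m + 1) f r) := by
  apply (residueEquiv p m).injective
  simp [sbar, residueEquiv_residue, coeff0_apply]

theorem sbar_iterate (i : ℕ) (x : ResidueField (TruncatedWittVector p (m + 1) k)) :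
    residueEquiv p m ((⇑(sbar p m f))^[i] x) = (⇑f)^[i] (residueEquiv p m x) := by
  induction i with
  | zero => rfl
  | succ i ih =>
    rw [Function.iterate_succ_apply', Function.iterate_succ_apply', ← ih]
    simp [sbar]

theorem sbar_fixed_eq (h2 : ∀ (n : ℕ) (b : Fin (n + 1) → k), b ≠ 0 →
      ∃ x : k, x ≠ 0 ∧ x = ∑ i : Fin (n + 1), (⇑f)^[i.val + 1] x * (⇑f)^[i.val] (b (Fin.rev i))) :
    ∀ (n : ℕ) (b : Fin (n + 1) → ResidueField (TruncatedWittVector p (m + 1) k)), b ≠ 0 →
      ∃ x, x ≠ 0 ∧ x = ∑ i : Fin (n + 1),
        (⇑(sbar p m f))^[i.val + 1] x * (⇑(sbar p m f))^[i.val] (b (Fin.rev i)) := by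
  intro n b hb
  obtain ⟨x, hx0, hx⟩ := h2 n (fun i => residueEquiv p m (b i)) (fun h => hb (funext fun i =>
    (residueEquiv p m).injective ((congrFun h i).trans (map_zero _).symm)))
  refine ⟨(residueEquiv p m).symm x, by simpa using hx0, (residueEquiv p m).injective ?_⟩
  rw [map_sum, RingEquiv.apply_symm_apply]
  refine hx.trans (Finset.sum_congr rfl fun i _ => ?_)
  rw [map_mul, sbar_iterate, sbar_iterate, RingEquiv.apply_symm_apply]

theorem sbar_sub_eq (h3 : ∀ c : k, ∃ y : k, f y - y + c = 0)
    (c : ResidueField (TruncatedWittVector p (m + 1) k)) : ∃ y, sbar p m f y - y + c = 0 := by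
  obtain ⟨y, hy⟩ := h3 (residueEquiv p m c)
  refine ⟨(residueEquiv p m).symm y, (residueEquiv p m).injective ?_⟩
  simp [sbar, hy]

theorem sbar_lift (x : ResidueField (TruncatedWittVector p (m + 1) k)) (hx : sbar p m f x = x) :
    ∃ r, WittGrp.truncMap p (m + 1) f r = r ∧ residue _ r = x := by
  refine ⟨WittVector.truncate (m + 1) (teichmuller p (residueEquiv p m x)), ?_, ?_⟩
  · rw [WittGrp.truncMap_truncate, map_teichmuller]
    have : f (residueEquiv p m x) = residueEquiv p m x := by
      simpa [hx] using (sbar_iterate p m f 1 x).symm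
    rw [this]
  · apply (residueEquiv p m).injective
    rw [residueEquiv_residue, coeff0_apply, WittVector.coeff_truncate]
    exact teichmuller_coeff_zero p _

omit [IsLocalRing (TruncatedWittVector p (m + 1) k)] in
theorem trunc_sub_surjective (f : k →+* k) (hf : Function.Surjective f)
    (h2 : ∀ (n : ℕ) (b : Fin (n + 1) → k), b ≠ 0 →
      ∃ x : k, x ≠ 0 ∧ x = ∑ i : Fin (n + 1), (⇑f)^[i.val + 1] x * (⇑f)^[i.val] (b (Fin.rev i)))
    (h3 : ∀ c : k, ∃ y : k, f y - y + c = 0) {n : ℕ} {M : Type*} [AddCommGroup M]
    [Module (TruncatedWittVector p n k) M] [Module.Finite (TruncatedWittVector p n k) M]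
    (T : M →ₛₗ[WittGrp.truncMap p n f] M) : Function.Surjective fun x : M => x - T x := by
  cases n with
  | zero =>
    haveI : Subsingleton (TruncatedWittVector p 0 k) :=
      ⟨fun a b => TruncatedWittVector.ext fun i => i.elim0⟩
    haveI := Module.subsingleton (TruncatedWittVector p 0 k) M
    exact fun x => ⟨x, Subsingleton.elim _ _⟩
  | succ m =>
    haveI := isLocalRing_trunc p m (k := k)
    refine local_sub_surjective (sbar_residue p m f) T p (maximalIdeal_trunc p m)
      (pow_eq_zero_trunc p (m + 1)) ?_ (sbar_fixed_eq p m f h2) (sbar_sub_eq p m f h3)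
    exact ((residueEquiv p m).symm.surjective.comp hf).comp (residueEquiv p m).surjective

omit [IsLocalRing (TruncatedWittVector p (m + 1) k)] [IsAlgClosed k] [CharP k p] hp in
theorem finite_frob_fixed (hp : 1 < p) : {x : k | x ^ p = x}.Finite := by
  apply Set.Finite.subset (Polynomial.finite_setOf_isRoot
    (p := (Polynomial.X ^ p - Polynomial.X : Polynomial k)) ?_) fun x hx => by
      simp only [Set.mem_ofPred_eq] at hx
      simp [Polynomial.IsRoot, hx]
  intro h
  have := congrArg (Polynomial.coeff · p) h
  simp [Polynomial.coeff_X, show 1 ≠ p by omega] at this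

omit [IsLocalRing (TruncatedWittVector p (m + 1) k)] in
theorem trunc_finite_fixed (f : k →+* k) (hf : ∀ x, f x = x → x ^ p = x)
    {n : ℕ} {M : Type*} [AddCommGroup M]
    [Module (TruncatedWittVector p n k) M] [Module.Finite (TruncatedWittVector p n k) M]
    (T : M →ₛₗ[WittGrp.truncMap p n f] M) : {x : M | T x = x}.Finite := by
  cases n with
  | zero =>
    haveI : Subsingleton (TruncatedWittVector p 0 k) :=
      ⟨fun a b => TruncatedWittVector.ext fun i => i.elim0⟩
    haveI := Module.subsingleton (TruncatedWittVector p 0 k) M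
    exact Set.toFinite _
  | succ m =>
    haveI := isLocalRing_trunc p m (k := k)
    obtain ⟨s, -, hs⟩ := local_fixed_fg (sbar_residue p m f) T p (maximalIdeal_trunc p m)
      (pow_eq_zero_trunc p (m + 1)) (sbar_lift p m f)
    let S := (WittGrp.truncMap p (m + 1) f).eqLocus (RingHom.id _)
    haveI : Finite S := by
      haveI : Finite {x : k | x ^ p = x} := (finite_frob_fixed p hp.out.one_lt).to_subtype
      refine Finite.of_injective (fun (r : S) (i : Fin (m + 1)) =>
        (⟨r.1.coeff i, hf _ (by
          conv_rhs => rw [← show WittGrp.truncMap p (m + 1) f r.1 = r.1 from r.2]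
          rw [WittGrp.coeff_truncMap])⟩ : {x : k | x ^ p = x})) fun a b hab => ?_
      exact Subtype.ext (TruncatedWittVector.ext fun i => congrArg Subtype.val (congrFun hab i))
    haveI : Module.Finite S (Submodule.span S (↑s : Set M)) :=
      Module.Finite.span_of_finite S s.finite_toSet
    haveI : Finite (Submodule.span S (↑s : Set M)) := Module.finite_of_finite S
    exact Set.Finite.subset (Set.toFinite (Submodule.span S (↑s : Set M) : Set M)) hs

end Groth.Agent.SigmaLinLib
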